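import Cfsg.Agent.H606.OreM.Vals
import Cfsg.Agent.H606.OreM.ZB

/-!
# Row M of S4173, line B: the values of the irreducible characters of the Monster on `2^(1+24)` (helper635)

* `S_two_of_three`, `S_three_of_three`, `S_four_of_three` : the sums over the types at a vector of type 3;
* `values4` : degree and all the values of a representation on `Q` from four multiplicities;
* `valQ` : the values of an irreducible character of the Monster on `Q`;
* `bound` : `- χ(1) / 400 ≤ χ(x) ≤ χ(1) / 21` for `x ∈ Q`, `x ≠ 1`;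
* `isConj_inv` : the elements of `Q` are real.
-/

set_option autoImplicit false
set_option maxRecDepth 100000

namespace Cfsg.Agent.H635.TC.RatQ

open Module Cfsg Cfsg.Spor
open Cfsg.Agent.H847.Avg Cfsg.Agent.H847.QTrace Cfsg.Agent.H847.QDeg Cfsg.Agent.H562.OreM.QVal
open Cfsg.Agent.H847.Co1Small (sg sg_zero sg_one sg_add sg_sq zcases)
open Cfsg.Agent.MonsterU.Lam2
open Cfsg.Agent.MonsterU.Ch
open Cfsg.Agent.MonsterU.CoFrameL2 (f0)
open Cfsg.Agent.ConwayFacts.NormL2 (ncard_two ncard_three ncard_four isType_f0 ne_zero_of_type)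

attribute [local instance] Cfsg.Agent.H847.QTrace.fintypeL2

/-! ### the sums at a vector of type 3 -/

theorem three_ne_zero {x : L2} (hx : IsType 3 x) : x ≠ 0 := by
  rintro rfl
  exact not_zero (Or.inr (Or.inl rfl)) hx

theorem S_three_of_three {x : L2} (hx : IsType 3 x) : S 3 x = 2048 := by
  have hq : qf x = 1 := by rw [qf_of_type hx]; rfl
  have h := gauss_shift x
  rw [sum_univ, bf_zero_left, qf_zero, add_zero, hq, sg_zero, sg_one] at h
  have h2 : ∑ v ∈ Tn 2, sg (qf v + bf v x) = S 2 x := Finset.sum_congr rfl fun v hv => by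
    rw [sg_add, qf_of_type (mem_Tn.1 hv)]
    rw [show ((2 : ℤ) : ZMod 2) = 0 from rfl, sg_zero, one_mul]
  have h3 : ∑ v ∈ Tn 3, sg (qf v + bf v x) = -S 3 x := by
    unfold S
    rw [← Finset.sum_neg_distrib]
    refine Finset.sum_congr rfl fun v hv => ?_
    rw [sg_add, qf_of_type (mem_Tn.1 hv)]
    rw [show ((3 : ℤ) : ZMod 2) = 1 from rfl, sg_one, neg_one_mul]
  have h4 : ∑ v ∈ Tn 4, sg (qf v + bf v x) = S 4 x := Finset.sum_congr rfl fun v hv => by
    rw [sg_add, qf_of_type (mem_Tn.1 hv)]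
    rw [show ((4 : ℤ) : ZMod 2) = 0 from rfl, sg_zero, one_mul]
  rw [h2, h3, h4] at h
  have h5 := S_sum (three_ne_zero hx)
  linear_combination (1 / 2 : ℂ) * h5 - (1 / 2 : ℂ) * h

theorem S_two_zero : S 2 0 = 98280 := by
  unfold S
  rw [sum_const 2 (c := 1) (fun v _ => by rw [bf_zero_right, sg_zero]), card_two, mul_one]

theorem S_two_of_three {x : L2} (hx : IsType 3 x) : S 2 x = -24 := by
  have h1 : ∑ y : L2, S 2 y = 0 := by
    unfold S
    rw [Finset.sum_comm]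
    refine Finset.sum_eq_zero fun v hv => ?_
    have h2 : ∑ y : L2, sg (bf v y) = ∑ y : L2, sg (bf y v) := Finset.sum_congr rfl fun y _ => by rw [bf_comm]
    rw [h2]
    exact sum_sg_ne (ne_zero_of_type (Or.inl rfl) (mem_Tn.1 hv))
  obtain ⟨x2, hx2⟩ : {x : L2 | IsType 2 x}.Nonempty :=
    Set.nonempty_of_ncard_ne_zero (by rw [ncard_two]; norm_num)
  rw [sum_univ, S_two_zero, sum_const 2 (f := S 2) (c := 4072) (fun v hv => S_two_of_two hv),
    sum_const 3 (f := S 2) (c := S 2 x) (fun v hv => S_eq 2 (Or.inr (Or.inl rfl)) hx hv),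
    sum_const 4 (f := S 2) (c := -24) (fun v hv => S_two_of_four hv), card_two, card_three, card_four] at h1
  linear_combination (1 / 8386560 : ℂ) * h1

theorem S_four_of_three {x : L2} (hx : IsType 3 x) : S 4 x = -2025 := by
  have h := S_sum (three_ne_zero hx)
  rw [S_two_of_three hx, S_three_of_three hx] at h
  linear_combination h

/-! ### the values -/

variable {G : Type*} [Group G] {Q : Subgroup G} {z : G} {eta : G → L2}
  {pi : Subgroup.centralizer ({z} : Set G) →* Co1}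
variable {V : Type*} [AddCommGroup V] [Module ℂ V]

/-- **Degree and values of a representation on `Q`.** -/
theorem values4 [FiniteDimensional ℂ V] (h : Chart Q z eta pi) (ρ : G →* (V →ₗ[ℂ] V))
    {y4 : G} (h4Q : y4 ∈ Q) (h4 : IsType 4 (eta y4)) (hconj : ∃ g, g * z * g⁻¹ = y4) :
    ∃ a b c e : ℕ, finrank ℂ V = a + 196584 * b + 16775168 * c + 16582679 * e ∧
      LinearMap.trace ℂ V (ρ z) = (((a : ℤ) - 24 * b - 2048 * c + 2071 * e : ℤ) : ℂ) ∧
      (∀ y ∈ Q, IsType 2 (eta y) → LinearMap.trace ℂ V (ρ y) = (((a : ℤ) + 4072 * b - 2048 * c - 2025 * e : ℤ) : ℂ)) ∧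
      (∀ y ∈ Q, IsType 3 (eta y) → LinearMap.trace ℂ V (ρ y) = (((a : ℤ) - 24 * b + 2048 * c - 2025 * e : ℤ) : ℂ)) ∧
      (∀ y ∈ Q, IsType 4 (eta y) → LinearMap.trace ℂ V (ρ y) = (((a : ℤ) - 24 * b - 2048 * c + 2071 * e : ℤ) : ℂ)) := by
  have hfin := h.fin
  have : Fintype Q := Fintype.ofFinite Q
  obtain ⟨x2, h2⟩ : {x : L2 | IsType 2 x}.Nonempty := Set.nonempty_of_ncard_ne_zero (by rw [ncard_two]; norm_num)
  obtain ⟨x3, h3⟩ : {x : L2 | IsType 3 x}.Nonempty := Set.nonempty_of_ncard_ne_zero (by have := ncard_three; omega)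
  have t4 : LinearMap.trace ℂ V (ρ y4) = LinearMap.trace ℂ V (ρ z) := by
    obtain ⟨g, rfl⟩ := hconj
    exact trace_conj ρ g z
  have key : ∀ y ∈ Q, eta y ≠ 0 → LinearMap.trace ℂ V (ρ y) =
      (m Q eta ρ 0 : ℂ) + S 2 (eta y) * (m Q eta ρ x2 : ℂ) + S 3 (eta y) * (m Q eta ρ x3 : ℂ) +
        S 4 (eta y) * (m Q eta ρ (eta y4) : ℂ) := by
    intro y hy hy0
    have e := sum_m h ρ hy
    rw [trace_z h hy hy0, sum_mult h ρ h2 h3 h4] at e
    linear_combination -e
  have n4 : eta y4 ≠ 0 := ne_zero_of_type (Or.inr rfl) h4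
  have e0 := sum_m h ρ Q.one_mem
  have e4 := key y4 h4Q n4
  rw [t4, S_two_of_four h4, S_three_of_four h4, S_four_of_four h4] at e4
  have s0 : ∀ n, S n 0 = ((Tn n).card : ℂ) := fun n => by
    unfold S
    rw [sum_const n (c := 1) (fun v _ => by rw [bf_zero_right, sg_zero]), mul_one]
  rw [h.eta_one, one_mul, map_one, LinearMap.trace_one, sum_mult h ρ h2 h3 h4, s0, s0, s0, card_two, card_three,
    card_four] at e0
  refine ⟨m Q eta ρ 0, m Q eta ρ x2, m Q eta ρ x3, m Q eta ρ (eta y4), ?_, ?_, ?_, ?_, ?_⟩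
  · have : ((finrank ℂ V : ℕ) : ℂ) = ((m Q eta ρ 0 + 196584 * m Q eta ρ x2 + 16775168 * m Q eta ρ x3 +
        16582679 * m Q eta ρ (eta y4) : ℕ) : ℂ) := by
      push_cast
      linear_combination (-2 : ℂ) * e0 - (1 : ℂ) * e4
    exact_mod_cast this
  · push_cast
    linear_combination e4
  · intro y hy hy2
    rw [key y hy (ne_zero_of_type (Or.inl rfl) hy2), S_two_of_two hy2, S_three_of_two hy2, S_four_of_two hy2]
    push_cast
    ring
  · intro y hy hy3
    rw [key y hy (three_ne_zero hy3), S_two_of_three hy3, S_three_of_three hy3, S_four_of_three hy3]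
    push_cast
    ring
  · intro y hy hy4
    rw [key y hy (ne_zero_of_type (Or.inr rfl) hy4), S_two_of_four hy4, S_three_of_four hy4, S_four_of_four hy4]
    push_cast
    ring

/-- the elements of `Q` are real -/
theorem isConj_inv_of (h : Chart Q z eta pi) {x : G} (hx : x ∈ Q) : IsConj x x⁻¹ := by
  by_cases h0 : eta x = 0
  · rcases (h.eta_zero x hx).1 h0 with rfl | rfl
    · rw [inv_one]
    · have h1 : x⁻¹ = x := inv_eq_of_mul_eq_one_left h.large.z_sq
      rw [h1]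
  · obtain ⟨r, -, hr, -⟩ := exists_conj_yz h hx h0
    rcases (h.eta_eq (Q.inv_mem hx) hx).1 (h.eta_inv hx) with h1 | h1
    · rw [h1]
    · rw [h1]
      exact isConj_iff.2 ⟨r, hr⟩

end Cfsg.Agent.H635.TC.RatQ

namespace Cfsg.Agent.H635.TC.RatQ

open Cfsg Cfsg.Agent.MonsterX Cfsg.Agent.MonsterX.InstData Cfsg.Agent.MonsterX.MainPack Cfsg.Agent.MonsterU
open Cfsg.Agent.MonsterP Cfsg.Agent.MonsterN Cfsg.Agent.LThreeMB
open Cfsg.Agent.MonsterX.MainBasic Cfsg.Agent.MonsterX.MainSimple Cfsg.Agent.MonsterX.Model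
open Cfsg.Agent.BpSpor.MBigModel
open Cfsg.Agent.LThreeB.Row (TA)
open Cfsg.Spor (Co1)
open Cfsg.Agent.MonsterU.Lam2 Cfsg.Agent.MonsterU.TwoCls
open Subgroup (centralizer zpowers mem_centralizer_singleton_iff)
open Cfsg.Agent.Characters.Core
open Cfsg.Agent.H606.OreM

/-- **The values on `2^(1+24)`.** -/
theorem valQ (χ : IrrCharacter MG) : ∃ a b c e : ℕ,
    charDegree (χ : MG → ℂ) = a + 196584 * b + 16775168 * c + 16582679 * e ∧
      (χ : MG → ℂ) zz = (((a : ℤ) - 24 * b - 2048 * c + 2071 * e : ℤ) : ℂ) ∧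
      ∀ x ∈ KDone.K.ι.range, x ≠ 1 → ∃ v : ℤ, (χ : MG → ℂ) x = (v : ℂ) ∧
        (v = a + 4072 * b - 2048 * c - 2025 * e ∨ v = a - 24 * b + 2048 * c - 2025 * e ∨
          v = a - 24 * b - 2048 * c + 2071 * e) := by
  obtain ⟨n, ρ, hρ, hρχ⟩ := id χ.2
  obtain ⟨y4, h4Q, h4, hc4⟩ := exists_four
  obtain ⟨a, b, c, e, h1, hz, h2, h3, h5⟩ := values4 chart ρ h4Q h4 hc4
  have hch : ∀ g : MG, (χ : MG → ℂ) g = LinearMap.trace ℂ (Fin n → ℂ) (ρ g) := by
    intro g
    rw [← hρχ]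
    rfl
  have hdeg : charDegree (χ : MG → ℂ) = n := by
    unfold charDegree
    rw [← hρχ]
    simp
  refine ⟨a, b, c, e, ?_, ?_, ?_⟩
  · rw [hdeg, ← h1, Module.finrank_fin_fun]
  · rw [hch, hz]
  · intro x hx hx1
    rcases type_cases (KChart.eta KDone.lft x) with h | h | h | h
    · rcases (chart.eta_zero x hx).1 h with h0 | h0
      · exact absurd h0 hx1
      · exact ⟨_, by rw [h0, hch, hz], Or.inr (Or.inr rfl)⟩
    · exact ⟨_, by rw [hch, h2 x hx h], Or.inl rfl⟩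
    · exact ⟨_, by rw [hch, h3 x hx h], Or.inr (Or.inl rfl)⟩
    · exact ⟨_, by rw [hch, h5 x hx h], Or.inr (Or.inr rfl)⟩

/-- **The bounds on `2^(1+24)`.** -/
theorem boundZ (hC : ∀ x : MG, orderOf x = 41 → Nat.card (centralizer ({x} : Set MG)) = 41) (χ : IrrCharacter MG)
    (hd : 1000000 ≤ charDegree (χ : MG → ℂ)) {x : MG} (hx : x ∈ KDone.K.ι.range) (hx1 : x ≠ 1) :
    ∃ v : ℤ, (χ : MG → ℂ) x = (v : ℂ) ∧ -(charDegree (χ : MG → ℂ) : ℤ) ≤ 400 * v ∧
      21 * v ≤ (charDegree (χ : MG → ℂ) : ℤ) := by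
  obtain ⟨a, b, c, e, h1, h2, h3⟩ := valQ χ
  have hz := zbound hC χ h2
  obtain ⟨v, hv, hc⟩ := h3 x hx hx1
  refine ⟨v, hv, ?_⟩
  have hz1 := (abs_le.1 (show |(a : ℤ) - 24 * b - 2048 * c + 2071 * e| ≤ (charDegree (χ : MG → ℂ) + 257) / 41 by omega)).2
  rw [h1] at hd hz1 ⊢
  push_cast at hz1 ⊢
  rcases hc with h | h | h <;> constructor <;> omega

/-- **The bounds on `2^(1+24)`, real form.** -/
theorem bound (hC : ∀ x : MG, orderOf x = 41 → Nat.card (centralizer ({x} : Set MG)) = 41) (χ : IrrCharacter MG)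
    (hd : 1000000 ≤ charDegree (χ : MG → ℂ)) {x : MG} (hx : x ∈ KDone.K.ι.range) (hx1 : x ≠ 1) :
    -((1 / 400 : ℝ) * charDegree (χ : MG → ℂ)) ≤ ((χ : MG → ℂ) x).re ∧
      ((χ : MG → ℂ) x).re ≤ (1 / 21 : ℝ) * charDegree (χ : MG → ℂ) := by
  obtain ⟨v, hv, h1, h2⟩ := boundZ hC χ hd hx hx1
  rw [hv, Complex.intCast_re]
  have h1' : -(charDegree (χ : MG → ℂ) : ℝ) ≤ 400 * v := by exact_mod_cast h1
  have h2' : 21 * (v : ℝ) ≤ charDegree (χ : MG → ℂ) := by exact_mod_cast h2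
  constructor <;> linarith

theorem isConj_inv {x : MG} (hx : x ∈ KDone.K.ι.range) : IsConj x x⁻¹ := isConj_inv_of chart hx

end Cfsg.Agent.H635.TC.RatQ
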